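import Cfsg.Agent.H244.G2.TetMore
import Cfsg.Agent.H244.LargeSimple
import Cfsg.Agent.StdL2.G23Aut

/-!
# The configuration of S2917 (helper244)

`C(z)` has the normal subgroups `L₁, L₂ ≅ SL(2,3)` with `L₁ ∩ L₂ = ⟨z⟩`, `[C(z) : L₁L₂] = 2`; `V ∋ z` is elementary
abelian of order 8, and `M` induces `Aut(V)`.
-/

set_option autoImplicit false
set_option linter.unusedSectionVars false

namespace Cfsg.Agent.H244.G2

open Subgroup Cfsg.Agent.LFourR.QThreeSL Cfsg.Agent.LFourR.QThree Cfsg.Agent.StdL2.G23Aut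
open Cfsg.Agent.LargeExtra.W2 Cfsg.Agent.Co2Type.Quad

variable {G : Type*} [Group G]

/-- the configuration -/
structure Cfg (z : G) (L₁ L₂ M V : Subgroup G) (i j x k l y : G) : Prop where
  t₁ : TG L₁ i j x
  t₂ : TG L₂ k l y
  z₁ : i * i = z
  z₂ : k * k = z
  inf : ∀ g, g ∈ L₁ → g ∈ L₂ → g = 1 ∨ g = z
  norm : ∀ g, g * z = z * g → (∀ x ∈ L₁, g * x * g⁻¹ ∈ L₁) ∧ ∀ x ∈ L₂, g * x * g⁻¹ ∈ L₂
  comm : ∀ x ∈ L₁, ∀ y ∈ L₂, x * y = y * x
  idx : ∀ g h, g * z = z * g → h * z = z * h → g ∉ L₁ ⊔ L₂ → h ∉ L₁ ⊔ L₂ → g * h ∈ L₁ ⊔ L₂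
  oct : Oct V
  zV : z ∈ V
  full : Full M V

namespace Cfg

variable [Finite G] {z : G} {L₁ L₂ M V : Subgroup G} {i j x k l y : G}

theorem ne (h : Cfg z L₁ L₂ M V i j x k l y) : z ≠ 1 := h.z₁ ▸ h.t₁.ne

theorem zz (h : Cfg z L₁ L₂ M V i j x k l y) : z * z = 1 := h.z₁ ▸ h.t₁.i4

theorem symm (h : Cfg z L₁ L₂ M V i j x k l y) : Cfg z L₂ L₁ M V k l y i j x where
  t₁ := h.t₂
  t₂ := h.t₁
  z₁ := h.z₂
  z₂ := h.z₁
  inf g h1 h2 := h.inf g h2 h1
  norm g hg := ⟨(h.norm g hg).2, (h.norm g hg).1⟩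
  comm a ha b hb := (h.comm b hb a ha).symm
  idx := by rw [sup_comm]; exact h.idx
  oct := h.oct
  zV := h.zV
  full := h.full

theorem zi (h : Cfg z L₁ L₂ M V i j x k l y) : z⁻¹ = z := inv_eq_of_mul_eq_one_left h.zz

theorem mz₁ (h : Cfg z L₁ L₂ M V i j x k l y) : z ∈ L₁ := h.z₁ ▸ L₁.mul_mem h.t₁.hi h.t₁.hi

theorem mz₂ (h : Cfg z L₁ L₂ M V i j x k l y) : z ∈ L₂ := h.z₂ ▸ L₂.mul_mem h.t₂.hi h.t₂.hi

theorem cz₁ (h : Cfg z L₁ L₂ M V i j x k l y) {g : G} (hg : g ∈ L₁) : g * z = z * g := h.comm g hg z h.mz₂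

theorem cz₂ (h : Cfg z L₁ L₂ M V i j x k l y) {g : G} (hg : g ∈ L₂) : g * z = z * g := (h.comm z h.mz₁ g hg).symm

theorem mem_sup (h : Cfg z L₁ L₂ M V i j x k l y) {g : G} :
    g ∈ L₁ ⊔ L₂ ↔ ∃ u ∈ L₁, ∃ v ∈ L₂, g = u * v := by
  constructor
  · intro hg
    let K : Subgroup G :=
      { carrier := {g | ∃ u ∈ L₁, ∃ v ∈ L₂, g = u * v}
        one_mem' := ⟨1, L₁.one_mem, 1, L₂.one_mem, by simp⟩
        mul_mem' := by
          rintro _ _ ⟨u, hu, v, hv, rfl⟩ ⟨u', hu', v', hv', rfl⟩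
          refine ⟨u * u', L₁.mul_mem hu hu', v * v', L₂.mul_mem hv hv', ?_⟩
          calc u * v * (u' * v') = u * (v * u') * v' := by group
            _ = u * (u' * v) * v' := by rw [h.comm u' hu' v hv]
            _ = _ := by group
        inv_mem' := by
          rintro _ ⟨u, hu, v, hv, rfl⟩
          refine ⟨u⁻¹, L₁.inv_mem hu, v⁻¹, L₂.inv_mem hv, ?_⟩
          rw [h.comm u hu v hv, mul_inv_rev] }
    have hle : L₁ ⊔ L₂ ≤ K := sup_le (fun u hu => ⟨u, hu, 1, L₂.one_mem, by simp⟩)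
      (fun v hv => ⟨1, L₁.one_mem, v, hv, by simp⟩)
    exact hle hg
  · rintro ⟨u, hu, v, hv, rfl⟩
    exact mul_mem (mem_sup_left hu) (mem_sup_right hv)

theorem cz (h : Cfg z L₁ L₂ M V i j x k l y) {g : G} (hg : g ∈ L₁ ⊔ L₂) : g * z = z * g := by
  obtain ⟨u, hu, v, hv, rfl⟩ := h.mem_sup.1 hg
  have c1 : Commute u z := h.cz₁ hu
  have c2 : Commute v z := h.cz₂ hv
  exact c1.mul_left c2

theorem normK (h : Cfg z L₁ L₂ M V i j x k l y) {c : G} (hc : c * z = z * c) {g : G} (hg : g ∈ L₁ ⊔ L₂) :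
    c * g * c⁻¹ ∈ L₁ ⊔ L₂ := by
  obtain ⟨u, hu, v, hv, rfl⟩ := h.mem_sup.1 hg
  have e : c * (u * v) * c⁻¹ = (c * u * c⁻¹) * (c * v * c⁻¹) := by group
  rw [e]
  exact mul_mem (mem_sup_left ((h.norm c hc).1 u hu)) (mem_sup_right ((h.norm c hc).2 v hv))

theorem cV (h : Cfg z L₁ L₂ M V i j x k l y) {v : G} (hv : v ∈ V) : v * z = z * v := h.oct.comm hv h.zV

/-- `M ∩ C(z)` is transitive on `V ∖ ⟨z⟩` -/
theorem trans (h : Cfg z L₁ L₂ M V i j x k l y) {a b : G} (ha : a ∈ V) (ha1 : a ≠ 1) (haz : a ≠ z)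
    (hb : b ∈ V) (hb1 : b ≠ 1) (hbz : b ≠ z) : ∃ m ∈ M, m * z = z * m ∧ m * a * m⁻¹ = b := by
  obtain ⟨a', A⟩ := h.oct.exists_bas' h.zV h.ne ha ha1 haz
  obtain ⟨b', B⟩ := h.oct.exists_bas' h.zV h.ne hb hb1 hbz
  obtain ⟨m, hm, -, h1, h2, -⟩ := h.full.bas h.oct A B
  exact ⟨m, hm, mul_inv_eq_iff_eq_mul.1 h1, h2⟩

theorem V_le (h : Cfg z L₁ L₂ M V i j x k l y) : V ≤ L₁ ⊔ L₂ := by
  intro v hv
  by_contra hvK
  have hv1 : v ≠ 1 := fun e => hvK (e ▸ one_mem _)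
  have hvz : v ≠ z := fun e => hvK (e ▸ mem_sup_left h.mz₁)
  obtain ⟨w, B⟩ := h.oct.exists_bas' h.zV h.ne hv hv1 hvz
  have key : ∀ a ∈ V, a ≠ 1 → a ≠ z → a ∈ L₁ ⊔ L₂ → False := by
    intro a ha ha1 haz haK
    obtain ⟨m, -, hmz, hm⟩ := h.trans ha ha1 haz hv hv1 hvz
    exact hvK (hm ▸ h.normK hmz haK)
  by_cases hw : w ∈ L₁ ⊔ L₂
  · exact key w B.hw B.w1 B.wx hw
  · refine key (v * w) (V.mul_mem hv B.hw) ?_ ?_ (h.idx v w (h.cV hv) (h.cV B.hw) hvK hw)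
    · intro e
      exact B.wy (h.oct.eq_of_mul B.hw e).symm
    · intro e
      apply B.wxy
      rw [← e, h.oct.comm hv B.hw, mul_assoc, h.oct.sq v hv, mul_one]

/-- elements of `V ∖ ⟨z⟩` -/
theorem exists_uv (h : Cfg z L₁ L₂ M V i j x k l y) {v : G} (hv : v ∈ V) (h1 : v ≠ 1) (h2 : v ≠ z) :
    ∃ u ∈ L₁, ∃ w ∈ L₂, v = u * w ∧ u * u = z ∧ w * w = z := by
  obtain ⟨u, hu, w, hw, rfl⟩ := h.mem_sup.1 (h.V_le hv)
  have hc := h.comm u hu w hw
  have hsq := h.oct.sq _ hv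
  have e : (u * u) * (w * w) = 1 := by
    calc (u * u) * (w * w) = u * (u * w) * w := by group
      _ = u * (w * u) * w := by rw [hc]
      _ = u * w * (u * w) := by group
      _ = 1 := hsq
  have e' : u * u = (w * w)⁻¹ := eq_inv_of_mul_eq_one_left e
  have hz := h.inf (u * u) (L₁.mul_mem hu hu) (by rw [e']; exact L₂.inv_mem (L₂.mul_mem hw hw))
  refine ⟨u, hu, w, hw, rfl, ?_⟩
  rcases hz with hz | hz
  · exfalso
    rw [hz, one_mul] at e
    have r1 := h.t₁.sq1 hu hz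
    have r2 := h.t₂.sq1 hw e
    rw [h.z₁] at r1
    rw [h.z₂] at r2
    rcases r1 with r1 | r1 <;> rcases r2 with r2 | r2
    · exact h1 (by rw [r1, r2, mul_one])
    · exact h2 (by rw [r1, r2, one_mul])
    · exact h2 (by rw [r1, r2, mul_one])
    · exact h1 (by rw [r1, r2, h.zz])
  · refine ⟨hz, ?_⟩
    rw [hz] at e
    rw [← h.zi]
    exact (inv_eq_of_mul_eq_one_right e).symm

/-- coordinates of a basis `z, a, b` of `V` -/
structure UV (z : G) (L₁ L₂ V : Subgroup G) (a b u w u' w' : G) : Prop where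
  bas : Bas V z a b
  hu : u ∈ L₁
  hw : w ∈ L₂
  hu' : u' ∈ L₁
  hw' : w' ∈ L₂
  a_eq : a = u * w
  b_eq : b = u' * w'
  uu : u * u = z
  ww : w * w = z
  uu' : u' * u' = z
  ww' : w' * w' = z
  ne1 : u ≠ u'
  ne2 : u ≠ u' * z
  ne3 : w ≠ w'
  ne4 : w ≠ w' * z

theorem exists_UV (h : Cfg z L₁ L₂ M V i j x k l y) : ∃ a b u w u' w', UV z L₁ L₂ V a b u w u' w' := by
  obtain ⟨a, b, B⟩ := h.oct.exists_bas h.zV h.ne
  obtain ⟨u, hu, w, hw, ea, huu, hww⟩ := h.exists_uv B.hy B.y1 B.yx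
  obtain ⟨u', hu', w', hw', eb, huu', hww'⟩ := h.exists_uv B.hw B.w1 B.wx
  have hab : (a * b) * (a * b) = 1 := h.oct.sq _ (V.mul_mem B.hy B.hw)
  have hne : ∀ c : G, a * b = c → (c = 1 ∨ c = z) → False := by
    rintro _ rfl (e | e)
    · exact B.wy (h.oct.eq_of_mul B.hw e).symm
    · apply B.wxy
      rw [← e, h.oct.comm B.hy B.hw, mul_assoc, h.oct.sq a B.hy, mul_one]
  -- if `u u' ∈ ⟨z⟩` then `a b ∈ L₂`
  have e1 : a * b = (u * u') * (w * w') := by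
    rw [ea, eb]
    calc u * w * (u' * w') = u * (w * u') * w' := by group
      _ = u * (u' * w) * w' := by rw [h.comm u' hu' w hw]
      _ = _ := by group
  have k1 : u * u' = 1 ∨ u * u' = z → False := by
    intro hc
    have hm : a * b ∈ L₂ := by
      rw [e1]
      refine L₂.mul_mem ?_ (L₂.mul_mem hw hw')
      rcases hc with hc | hc
      · rw [hc]; exact one_mem _
      · rw [hc]; exact h.mz₂
    have := h.t₂.sq1 hm hab
    rw [h.z₂] at this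
    exact hne _ rfl this
  have k2 : w * w' = 1 ∨ w * w' = z → False := by
    intro hc
    have hm : a * b ∈ L₁ := by
      rw [e1]
      refine L₁.mul_mem (L₁.mul_mem hu hu') ?_
      rcases hc with hc | hc
      · rw [hc]; exact one_mem _
      · rw [hc]; exact h.mz₁
    have := h.t₁.sq1 hm hab
    rw [h.z₁] at this
    exact hne _ rfl this
  refine ⟨a, b, u, w, u', w', B, hu, hw, hu', hw', ea, eb, huu, hww, huu', hww', ?_, ?_, ?_, ?_⟩
  · intro e; exact k1 (Or.inr (by rw [e, huu']))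
  · intro e; exact k1 (Or.inl (by rw [e, mul_assoc, ← h.cz₁ hu', ← mul_assoc, huu', h.zz]))
  · intro e; exact k2 (Or.inr (by rw [e, hww']))
  · intro e; exact k2 (Or.inl (by rw [e, mul_assoc, ← h.cz₂ hw', ← mul_assoc, hww', h.zz]))

/-- an element of `C(z)` moving `a` to `b` moves `u` to `u'` up to `z` -/
theorem UV.act (h : Cfg z L₁ L₂ M V i j x k l y) {u w u' w' : G} (hu : u ∈ L₁) (hw : w ∈ L₂) (hu' : u' ∈ L₁)
    (hw' : w' ∈ L₂) {c : G} (hc : c * z = z * c) (he : c * (u * w) * c⁻¹ = u' * w') :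
    (c * u * c⁻¹ = u' ∨ c * u * c⁻¹ = u' * z) ∧ (c * w * c⁻¹ = w' ∨ c * w * c⁻¹ = w' * z) := by
  have m1 := (h.norm c hc).1 u hu
  have m2 := (h.norm c hc).2 w hw
  have e1 : (c * u * c⁻¹) * (c * w * c⁻¹) = u' * w' := by rw [← he]; group
  have e2 : u'⁻¹ * (c * u * c⁻¹) = w' * (c * w * c⁻¹)⁻¹ := by
    rw [inv_mul_eq_iff_eq_mul, ← mul_assoc, eq_mul_inv_iff_mul_eq]
    exact e1
  have e3 := h.inf _ (L₁.mul_mem (L₁.inv_mem hu') m1) (by rw [e2]; exact L₂.mul_mem hw' (L₂.inv_mem m2))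
  constructor
  · rcases e3 with e3 | e3
    · left; exact (inv_mul_eq_one.1 e3).symm
    · right; exact inv_mul_eq_iff_eq_mul.1 e3
  · rw [e2] at e3
    rcases e3 with e3 | e3
    · left; exact (mul_inv_eq_one.1 e3).symm
    · right
      have e4 : w' = z * (c * w * c⁻¹) := mul_inv_eq_iff_eq_mul.1 e3
      rw [e4, ← h.cz₂ m2]
      rw [mul_assoc _ z z, h.zz, mul_one]

/-- an element of `C(z)` swapping `a` and `b` -/
structure Sw (z a b c : G) : Prop where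
  cz : c * z = z * c
  ab : c * a * c⁻¹ = b
  ba : c * b * c⁻¹ = a

/-- no element of `L₁ C(L₁)` swaps `a` and `b` -/
theorem UV.noswap₁ (h : Cfg z L₁ L₂ M V i j x k l y) {a b u w u' w' : G} (U : UV z L₁ L₂ V a b u w u' w')
    {c : G} (S : Sw z a b c) {g : G} (hg : g ∈ L₁) (hgc : ∀ v ∈ L₁, c * v * c⁻¹ = g * v * g⁻¹) : False := by
  have h1 := (UV.act h U.hu U.hw U.hu' U.hw' S.cz (by rw [← U.a_eq, ← U.b_eq]; exact S.ab)).1
  have h2 := (UV.act h U.hu' U.hw' U.hu U.hw S.cz (by rw [← U.a_eq, ← U.b_eq]; exact S.ba)).1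
  rw [hgc _ U.hu] at h1
  rw [hgc _ U.hu'] at h2
  refine h.t₁.noswap hg U.hu U.hu' (U.uu.trans h.z₁.symm) (U.uu'.trans h.z₁.symm) U.ne1 ?_ ?_ ?_
  · rw [h.z₁]; exact U.ne2
  · rw [h.z₁]; exact h1
  · rw [h.z₁]; exact h2

theorem UV.symm (h : Cfg z L₁ L₂ M V i j x k l y) {a b u w u' w' : G} (U : UV z L₁ L₂ V a b u w u' w') :
    UV z L₂ L₁ V a b w u w' u' where
  bas := U.bas
  hu := U.hw
  hw := U.hu
  hu' := U.hw'
  hw' := U.hu'
  a_eq := U.a_eq.trans (h.comm _ U.hu _ U.hw)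
  b_eq := U.b_eq.trans (h.comm _ U.hu' _ U.hw')
  uu := U.ww
  ww := U.uu
  uu' := U.ww'
  ww' := U.uu'
  ne1 := U.ne3
  ne2 := U.ne4
  ne3 := U.ne1
  ne4 := U.ne2

/-- a swapping element is outside `L₁ L₂` -/
theorem UV.not_mem (h : Cfg z L₁ L₂ M V i j x k l y) {a b u w u' w' : G} (U : UV z L₁ L₂ V a b u w u' w')
    {c : G} (S : Sw z a b c) : c ∉ L₁ ⊔ L₂ := by
  intro hc
  obtain ⟨g, hg, g', hg', rfl⟩ := h.mem_sup.1 hc
  refine U.noswap₁ h S hg fun v hv => ?_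
  have := h.comm v hv g' hg'
  calc g * g' * v * (g * g')⁻¹ = g * (g' * v) * g'⁻¹ * g⁻¹ := by group
    _ = g * (v * g') * g'⁻¹ * g⁻¹ := by rw [this]
    _ = _ := by group

theorem exists_sw (h : Cfg z L₁ L₂ M V i j x k l y) {a b u w u' w' : G} (U : UV z L₁ L₂ V a b u w u' w')
    {N : Subgroup G} (hN : Full N V) : ∃ m ∈ N, Sw z a b m := by
  obtain ⟨m, hm, -, h1, h2, h3⟩ := hN.bas h.oct U.bas (U.bas.swap23 h.oct)
  exact ⟨m, hm, mul_inv_eq_iff_eq_mul.1 h1, h2, h3⟩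

/-- `C(z) ∩ C(L₁L₂) = ⟨z⟩` -/
theorem cent (h : Cfg z L₁ L₂ M V i j x k l y) {c : G} (hc : c * z = z * c)
    (h1 : ∀ x ∈ L₁, c * x = x * c) (h2 : ∀ x ∈ L₂, c * x = x * c) : c = 1 ∨ c = z := by
  by_cases hK : c ∈ L₁ ⊔ L₂
  · obtain ⟨g, hg, g', hg', rfl⟩ := h.mem_sup.1 hK
    have k1 : ∀ v ∈ L₁, g * v = v * g := by
      intro v hv
      have e := h1 v hv
      have e' := h.comm v hv g' hg'
      have : (g * v) * g' = (v * g) * g' := by
        calc (g * v) * g' = g * (v * g') := by group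
          _ = g * g' * v := by rw [e']; group
          _ = _ := by rw [e]; group
      exact mul_right_cancel this
    have k2 : ∀ v ∈ L₂, g' * v = v * g' := by
      intro v hv
      have e := h2 v hv
      have e' := h.comm g hg v hv
      have : g * (g' * v) = g * (v * g') := by
        calc g * (g' * v) = g * g' * v := by group
          _ = v * g * g' := by rw [e]; group
          _ = _ := by rw [← e']; group
      exact mul_left_cancel this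
    have r1 := h.t₁.cen hg (k1 i h.t₁.hi) (k1 j h.t₁.hj)
    have r2 := h.t₂.cen hg' (k2 k h.t₂.hi) (k2 l h.t₂.hj)
    rw [h.z₁] at r1
    rw [h.z₂] at r2
    rcases r1 with r1 | r1 <;> rcases r2 with r2 | r2
    · left; rw [r1, r2, mul_one]
    · right; rw [r1, r2, one_mul]
    · right; rw [r1, r2, mul_one]
    · left; rw [r1, r2, h.zz]
  · exfalso
    obtain ⟨a, b, u, w, u', w', U⟩ := h.exists_UV
    obtain ⟨m, -, S⟩ := h.exists_sw U h.full
    have hmK := U.not_mem h S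
    have hcm := h.idx c m hc S.cz hK hmK
    obtain ⟨g, hg, g', hg', e⟩ := h.mem_sup.1 hcm
    refine U.noswap₁ h S hg fun v hv => ?_
    have e1 := h.comm v hv g' hg'
    have e2 : m = c⁻¹ * (g * g') := by rw [← e]; group
    have e3 : g' * v * g'⁻¹ = v := by rw [← e1]; group
    have hgv : g * v * g⁻¹ ∈ L₁ := L₁.mul_mem (L₁.mul_mem hg hv) (L₁.inv_mem hg)
    have e4 : c⁻¹ * (g * v * g⁻¹) * c = g * v * g⁻¹ := by
      rw [mul_assoc, ← h1 _ hgv]; group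
    calc m * v * m⁻¹ = c⁻¹ * (g * (g' * v * g'⁻¹) * g⁻¹) * c := by rw [e2]; group
      _ = g * v * g⁻¹ := by rw [e3, e4]

/-- the ambient data of `LFourR.QThree` -/
theorem amb (h : Cfg z L₁ L₂ M V i j x k l y) : Amb z L₁ L₂ where
  zz := h.zz
  z_ne := h.ne
  z₁ := h.mz₁
  z₂ := h.mz₂
  comm := h.comm
  inf := h.inf
  norm g hg := Or.inl (h.norm g hg)
  cent _ hg h1 h2 := h.cent hg h1 h2

/-- adjust a swapping element by an element of `L₁` -/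
theorem adj (h : Cfg z L₁ L₂ M V i j x k l y) {a b u w u' w' : G} (U : UV z L₁ L₂ V a b u w u' w')
    {c : G} (S : Sw z a b c) : ∃ g ∈ L₁, (g * c) * i * (g * c)⁻¹ = j * z ∧ (g * c) * x * (g * c)⁻¹ = x⁻¹ := by
  have hn := (h.norm c S.cz).1
  have x1 : x ≠ 1 := by
    intro e
    have h0 := h.t₁.xi
    rw [e] at h0
    have e2 : i = j := by simpa using h0
    have e3 := h.t₁.ji
    rw [← e2] at e3
    have e4 : i * i = 1 := by
      have e5 : i * i * 1 = i * i * (i * i) := by rw [mul_one]; exact e3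
      exact (mul_left_cancel e5).symm
    exact h.t₁.ne e4
  obtain ⟨g, hg, hh⟩ := h.t₁.aut (u := c * i * c⁻¹) (w := c * x * c⁻¹) (hn i h.t₁.hi) (hn x h.t₁.hx)
    (by
      calc (c * i * c⁻¹) * (c * i * c⁻¹) = c * (i * i) * c⁻¹ := by group
        _ = i * i := by rw [h.z₁, S.cz]; group)
    (by rw [conj_pow, h.t₁.x3, mul_one, mul_inv_cancel])
    (by
      intro e
      apply x1
      calc x = c⁻¹ * (c * x * c⁻¹) * c := by group
        _ = 1 := by rw [e]; group)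
    (by
      have e1 : c * x * c⁻¹ * (c * i * c⁻¹) * (c * x * c⁻¹)⁻¹ = c * j * c⁻¹ := by
        rw [← h.t₁.xi]; group
      rw [e1]
      calc c * x * c⁻¹ * (c * j * c⁻¹) * (c * x * c⁻¹)⁻¹ = c * (x * j * x⁻¹) * c⁻¹ := by group
        _ = c * i * c⁻¹ * (c * j * c⁻¹) := by rw [h.t₁.xj]; group)
  have e0 : ∀ v : G, (g * c) * v * (g * c)⁻¹ = g * (c * v * c⁻¹) * g⁻¹ := fun v => by group
  rcases hh with ⟨h1, h2⟩ | ⟨h1, h2⟩
  · exfalso
    rw [← e0] at h1 h2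
    have c1 : Commute (g * c) i := mul_inv_eq_iff_eq_mul.1 h1
    have c2 : Commute (g * c) x := mul_inv_eq_iff_eq_mul.1 h2
    have c3 : Commute (g * c) j := by
      rw [← h.t₁.xi]
      exact (c2.mul_right c1).mul_right c2.inv_right
    refine U.noswap₁ h S (L₁.inv_mem hg) fun v hv => ?_
    obtain ⟨p, q, r, rfl⟩ := h.t₁.gen hv
    have c4 : Commute (g * c) (i ^ (p : ℕ) * j ^ (q : ℕ) * x ^ (r : ℕ)) :=
      ((c1.pow_right _).mul_right (c3.pow_right _)).mul_right (c2.pow_right _)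
    generalize i ^ (p : ℕ) * j ^ (q : ℕ) * x ^ (r : ℕ) = v at c4 ⊢
    have e1 : g * c * v * (g * c)⁻¹ = v := mul_inv_eq_iff_eq_mul.2 c4.eq
    calc c * v * c⁻¹ = g⁻¹ * (g * c * v * (g * c)⁻¹) * g := by group
      _ = g⁻¹ * v * g⁻¹⁻¹ := by rw [e1, inv_inv]
  · refine ⟨g, hg, ?_, ?_⟩
    · rw [e0, h1, h.z₁]
    · rw [e0, h2]

/-- `x⁻¹ j x = i` -/
theorem x_inv_j (h : Cfg z L₁ L₂ M V i j x k l y) : x⁻¹ * j * x = i := by
  rw [← h.t₁.xi]; group

/-- the outer element `y` -/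
theorem exists_y (h : Cfg z L₁ L₂ M V i j x k l y) {a b u w u' w' : G} (U : UV z L₁ L₂ V a b u w u' w')
    {c : G} (S : Sw z a b c) : ∃ g₁ ∈ L₁, ∃ g₂ ∈ L₂, ∃ s, s = g₂ * (g₁ * c) ∧ s * z = z * s ∧
      s * i * s⁻¹ = j * z ∧ s * j * s⁻¹ = i * z ∧ s * x * s⁻¹ = x⁻¹ ∧
      s * k * s⁻¹ = l * z ∧ s * l * s⁻¹ = k * z ∧ s * y * s⁻¹ = y⁻¹ := by
  obtain ⟨g₁, hg₁, h1, h2⟩ := h.adj U S
  obtain ⟨g₂, hg₂, h3, h4⟩ := h.symm.adj (U.symm h) S
  have hc := h.comm g₁ hg₁ g₂ hg₂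
  have e1 : g₂ * (g₁ * c) = g₁ * (g₂ * c) := by rw [← mul_assoc, ← hc, mul_assoc]
  -- conjugation by `s` on `L₁` and `L₂`
  have k1 : ∀ v v' : G, (g₁ * c) * v * (g₁ * c)⁻¹ = v' → v' ∈ L₁ →
      g₂ * (g₁ * c) * v * (g₂ * (g₁ * c))⁻¹ = v' := by
    intro v v' e hv
    have := h.comm v' hv g₂ hg₂
    calc g₂ * (g₁ * c) * v * (g₂ * (g₁ * c))⁻¹ = g₂ * ((g₁ * c) * v * (g₁ * c)⁻¹) * g₂⁻¹ := by group
      _ = v' := by rw [e, ← this]; group
  have k2 : ∀ v v' : G, (g₂ * c) * v * (g₂ * c)⁻¹ = v' → v' ∈ L₂ →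
      g₂ * (g₁ * c) * v * (g₂ * (g₁ * c))⁻¹ = v' := by
    intro v v' e hv
    have := h.comm g₁ hg₁ v' hv
    rw [e1]
    calc g₁ * (g₂ * c) * v * (g₁ * (g₂ * c))⁻¹ = g₁ * ((g₂ * c) * v * (g₂ * c)⁻¹) * g₁⁻¹ := by group
      _ = v' := by rw [e, this]; group
  have hsz : (g₂ * (g₁ * c)) * z = z * (g₂ * (g₁ * c)) := by
    have c1 : Commute g₂ z := h.cz₂ hg₂
    have c2 : Commute g₁ z := h.cz₁ hg₁
    have c3 : Commute c z := S.cz
    exact c1.mul_left (c2.mul_left c3)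
  obtain ⟨s, hs⟩ : ∃ s, s = g₂ * (g₁ * c) := ⟨_, rfl⟩
  rw [← hs] at k1 k2 hsz
  have a1 := k1 _ _ h1 (L₁.mul_mem h.t₁.hj h.mz₁)
  have a2 := k1 _ _ h2 (L₁.inv_mem h.t₁.hx)
  have a3 := k2 _ _ h3 (L₂.mul_mem h.t₂.hj h.mz₂)
  have a4 := k2 _ _ h4 (L₂.inv_mem h.t₂.hx)
  -- the image of `j`
  have key : ∀ i j x : G, s * i * s⁻¹ = j * z → s * x * s⁻¹ = x⁻¹ → x * i * x⁻¹ = j → x * z = z * x →
      s * j * s⁻¹ = i * z := by
    intro i j x h1 h2 h3 h4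
    calc s * j * s⁻¹ = (s * x * s⁻¹) * (s * i * s⁻¹) * (s * x * s⁻¹)⁻¹ := by rw [← h3]; group
      _ = x⁻¹ * j * (z * x) := by rw [h1, h2]; group
      _ = x⁻¹ * j * x * z := by rw [← h4]; group
      _ = i * z := by rw [← h3]; group
  exact ⟨g₁, hg₁, g₂, hg₂, s, hs, hsz, a1, key _ _ _ a1 a2 h.t₁.xi (h.cz₁ h.t₁.hx), a2, a3,
    key _ _ _ a3 a4 h.t₂.xi (h.cz₂ h.t₂.hx), a4⟩

/-- index two -/
theorem mem_of (h : Cfg z L₁ L₂ M V i j x k l y) {s g : G} (hsz : s * z = z * s) (hs : s ∉ L₁ ⊔ L₂)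
    (hg : g * z = z * g) (hgK : g ∉ L₁ ⊔ L₂) : s⁻¹ * g ∈ L₁ ⊔ L₂ := by
  refine h.idx s⁻¹ g ?_ hg (fun e => hs (by simpa using inv_mem e)) hgK
  have c1 : Commute s z := hsz
  exact c1.inv_left.eq

/-- **`Case9c`** -/
theorem case9c (h : Cfg z L₁ L₂ M V i j x k l y) (hcard : Nat.card (centralizer ({z} : Set G)) = 576) :
    ∃ s, Case9c (h.amb.Q h.t₁.toTetG h.t₂.toTetG) z i j k l x y s := by
  obtain ⟨a, b, u, w, u', w', U⟩ := h.exists_UV
  obtain ⟨m, -, S⟩ := h.exists_sw U h.full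
  obtain ⟨g₁, hg₁, g₂, hg₂, s, hs, hsz, e1, e2, e3, e4, e5, e6⟩ := h.exists_y U S
  have hmK := U.not_mem h S
  have hsK : s ∉ L₁ ⊔ L₂ := by
    intro e
    apply hmK
    have : m = g₁⁻¹ * (g₂⁻¹ * s) := by rw [hs]; group
    rw [this]
    exact mul_mem (inv_mem (mem_sup_left hg₁)) (mul_mem (inv_mem (mem_sup_right hg₂)) e)
  refine ⟨s, { h.amb.plus h.t₁.toTetG h.t₂.toTetG with
    x₁3 := h.t₁.x3
    x₂3 := h.t₂.x3
    x₁_act := ?_
    x₂_act := ?_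
    y_act := ?_
    xx := h.comm x h.t₁.hx y h.t₂.hx
    y1 := e3
    y2 := e6
    yy := ?_
    cent := ?_
    card_cent := hcard }⟩
  · refine ⟨?_, h.t₁.xi, h.t₁.xj, ?_, ?_⟩
    · rw [h.cz₁ h.t₁.hx]; group
    · rw [h.comm x h.t₁.hx k h.t₂.hi]; group
    · rw [h.comm x h.t₁.hx l h.t₂.hj]; group
  · refine ⟨?_, ?_, ?_, h.t₂.xi, h.t₂.xj⟩
    · rw [h.cz₂ h.t₂.hx]; group
    · rw [← h.comm i h.t₁.hi y h.t₂.hx]; group
    · rw [← h.comm j h.t₁.hj y h.t₂.hx]; group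
  · refine ⟨?_, e1, e2, e4, e5⟩
    rw [hsz]; group
  · have c0 : Commute s z := hsz
    have k1 : ∀ i j : G, s * i * s⁻¹ = j * z → s * j * s⁻¹ = i * z → Commute (s * s) i := by
      intro i j h1 h2
      have : s * s * i * (s * s)⁻¹ = i := by
        calc s * s * i * (s * s)⁻¹ = s * (s * i * s⁻¹) * s⁻¹ := by group
          _ = (s * j * s⁻¹) * (s * z * s⁻¹) := by rw [h1]; group
          _ = i * z * z := by rw [h2, hsz]; group
          _ = i := by rw [mul_assoc, h.zz, mul_one]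
      exact mul_inv_eq_iff_eq_mul.1 this
    have k2 : ∀ x : G, s * x * s⁻¹ = x⁻¹ → Commute (s * s) x := by
      intro x h1
      have : s * s * x * (s * s)⁻¹ = x := by
        calc s * s * x * (s * s)⁻¹ = s * (s * x * s⁻¹) * s⁻¹ := by group
          _ = s * x⁻¹ * s⁻¹ := by rw [h1]
          _ = (s * x * s⁻¹)⁻¹ := by group
          _ = x := by rw [h1, inv_inv]
      exact mul_inv_eq_iff_eq_mul.1 this
    apply h.cent (c0.mul_left c0)
    · intro v hv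
      obtain ⟨p, q, r, rfl⟩ := h.t₁.gen hv
      exact (((k1 _ _ e1 e2).pow_right _).mul_right ((k1 _ _ e2 e1).pow_right _)).mul_right
        ((k2 _ e3).pow_right _)
    · intro v hv
      obtain ⟨p, q, r, rfl⟩ := h.t₂.gen hv
      exact (((k1 _ _ e4 e5).pow_right _).mul_right ((k1 _ _ e5 e4).pow_right _)).mul_right
        ((k2 _ e6).pow_right _)
  · set C := Subgroup.closure ({i, j, k, l, x, y, s} : Set G) with hC
    have mi : i ∈ C := subset_closure (by simp)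
    have mj : j ∈ C := subset_closure (by simp)
    have mk : k ∈ C := subset_closure (by simp)
    have ml : l ∈ C := subset_closure (by simp)
    have mx : x ∈ C := subset_closure (by simp)
    have my : y ∈ C := subset_closure (by simp)
    have ms : s ∈ C := subset_closure (by simp)
    have hK : L₁ ⊔ L₂ ≤ C := by
      apply sup_le
      · intro v hv
        obtain ⟨p, q, r, rfl⟩ := h.t₁.gen hv
        exact mul_mem (mul_mem (pow_mem mi _) (pow_mem mj _)) (pow_mem mx _)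
      · intro v hv
        obtain ⟨p, q, r, rfl⟩ := h.t₂.gen hv
        exact mul_mem (mul_mem (pow_mem mk _) (pow_mem ml _)) (pow_mem my _)
    apply le_antisymm
    · intro g hg
      have hgz := mem_centralizer_singleton_iff.1 hg
      by_cases hgK : g ∈ L₁ ⊔ L₂
      · exact hK hgK
      · have := h.mem_of hsz hsK hgz hgK
        have e : g = s * (s⁻¹ * g) := by group
        rw [e]
        exact mul_mem ms (hK this)
    · rw [hC, closure_le]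
      intro g hg
      have hg' : g = i ∨ g = j ∨ g = k ∨ g = l ∨ g = x ∨ g = y ∨ g = s := by simpa using hg
      show g ∈ centralizer ({z} : Set G)
      rw [mem_centralizer_singleton_iff]
      rcases hg' with rfl | rfl | rfl | rfl | rfl | rfl | rfl
      · exact h.cz₁ h.t₁.hi
      · exact h.cz₁ h.t₁.hj
      · exact h.cz₂ h.t₂.hi
      · exact h.cz₂ h.t₂.hj
      · exact h.cz₁ h.t₁.hx
      · exact h.cz₂ h.t₂.hx
      · exact hsz

end Cfg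

end Cfsg.Agent.H244.G2
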