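import Cfsg.Agent.H244.G2.Simple
import Cfsg.Agent.LieClassical.SLTwoThree
import Cfsg.Prelude.Def_Solvable

/-!
# From the hypotheses of S2917 to the configuration (helper244)
-/

set_option autoImplicit false
set_option linter.unusedSectionVars false

namespace Cfsg.Agent.H244.G2

open Subgroup Cfsg.Agent.LFourR.QThreeSL Cfsg.Agent.LFourR.QThree Cfsg.Agent.StdL2.G23Aut
open Cfsg.Agent.LargeExtra.W2 Cfsg.Agent.Co2Type.Quad

variable {G : Type*} [Group G]

/-- `⟨z⟩ = Z(L)` -/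
theorem TG.central {L : Subgroup G} {i j x : G} (h : TG L i j x) {g : G} (hg : g ∈ L) :
    g * (i * i) = (i * i) * g := by
  have c1 : Commute i (i * i) := (Commute.refl i).mul_right (Commute.refl i)
  have c2 : Commute j (i * i) := by
    rw [← h.jj]
    exact (Commute.refl j).mul_right (Commute.refl j)
  have c3 : Commute x (i * i) := by
    have : x * (i * i) * x⁻¹ = i * i := by
      calc x * (i * i) * x⁻¹ = (x * i * x⁻¹) * (x * i * x⁻¹) := by group
        _ = i * i := by rw [h.xi, h.jj]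
    exact mul_inv_eq_iff_eq_mul.1 this
  obtain ⟨p, q, r, rfl⟩ := h.gen hg
  exact ((c1.pow_left _).mul_left (c2.pow_left _)).mul_left (c3.pow_left _)

theorem TG.mem_cent {L : Subgroup G} {i j x : G} (h : TG L i j x) {g : G} :
    g ∈ L ⊓ centralizer (L : Set G) ↔ g = 1 ∨ g = i * i := by
  rw [mem_inf, mem_centralizer_iff]
  constructor
  · rintro ⟨h1, h2⟩
    exact h.cen h1 (h2 i h.hi).symm (h2 j h.hj).symm
  · rintro (rfl | rfl)
    · exact ⟨one_mem _, fun g _ => by simp⟩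
    · exact ⟨mul_mem h.hi h.hi, fun g hg => h.central hg⟩

/-- `[L₁, L₂] = 1` -/
theorem comm_of {L₁ L₂ : Subgroup G} {z i j x : G} (h : TG L₁ i j x)
    (n1 : ∀ g ∈ L₂, ∀ v ∈ L₁, g * v * g⁻¹ ∈ L₁) (n2 : ∀ g ∈ L₁, ∀ v ∈ L₂, g * v * g⁻¹ ∈ L₂)
    (hinf : ∀ g, g ∈ L₁ → g ∈ L₂ → g = 1 ∨ g = z) (hzz : z * z = 1) (c1 : ∀ g ∈ L₁, g * z = z * g) :
    ∀ u ∈ L₁, ∀ v ∈ L₂, u * v = v * u := by
  intro u hu v hv
  -- `v` acts on `L₁` by `u ↦ u` or `u z`
  have key : ∀ u ∈ L₁, v * u * v⁻¹ = u ∨ v * u * v⁻¹ = z * u := by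
    intro u hu
    have m1 : v * u * v⁻¹ * u⁻¹ ∈ L₁ := L₁.mul_mem (n1 v hv u hu) (L₁.inv_mem hu)
    have m2 : v * u * v⁻¹ * u⁻¹ ∈ L₂ := by
      have : v * u * v⁻¹ * u⁻¹ = v * (u * v⁻¹ * u⁻¹) := by group
      rw [this]
      exact L₂.mul_mem hv (n2 u hu _ (L₂.inv_mem hv))
    rcases hinf _ m1 m2 with e | e
    · left; exact mul_inv_eq_one.1 e
    · right; exact mul_inv_eq_iff_eq_mul.1 e
  have kx : v * x * v⁻¹ = x := by
    rcases key x h.hx with e | e
    · exact e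
    · have e1 : (v * x * v⁻¹) ^ 3 = 1 := by rw [conj_pow, h.x3, mul_one, mul_inv_cancel]
      have c : Commute z x := (c1 x h.hx).symm
      rw [e, c.mul_pow, h.x3, mul_one] at e1
      have e2 : z = 1 := by
        have : z ^ 3 = z * z * z := by simp only [pow_succ, pow_zero, one_mul]
        rw [this, hzz, one_mul] at e1
        exact e1
      rw [e, e2, one_mul]
  have cx : v * x = x * v := mul_inv_eq_iff_eq_mul.1 kx
  have kc : ∀ w w' : G, v * w * v⁻¹ = w' → v * (x * w * x⁻¹) * v⁻¹ = x * w' * x⁻¹ := by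
    intro w w' e
    calc v * (x * w * x⁻¹) * v⁻¹ = (v * x) * w * (v * x)⁻¹ := by group
      _ = x * (v * w * v⁻¹) * x⁻¹ := by rw [cx]; group
      _ = _ := by rw [e]
  have ki : v * i * v⁻¹ = i := by
    rcases key i h.hi with e | e
    · exact e
    · have e1 := kc _ _ e
      rw [h.xi] at e1
      have e2 : x * (z * i) * x⁻¹ = z * j := by
        rw [← h.xi]
        calc x * (z * i) * x⁻¹ = (x * z) * i * x⁻¹ := by group
          _ = z * (x * i * x⁻¹) := by rw [c1 x h.hx]; group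
      rw [e2] at e1
      have e3 := kc _ _ e1
      rw [h.xj] at e3
      have e4 : x * (z * j) * x⁻¹ = z * (i * j) := by
        rw [← h.xj]
        calc x * (z * j) * x⁻¹ = (x * z) * j * x⁻¹ := by group
          _ = z * (x * j * x⁻¹) := by rw [c1 x h.hx]; group
      rw [e4] at e3
      have e5 : v * (i * j) * v⁻¹ = i * j := by
        calc v * (i * j) * v⁻¹ = (v * i * v⁻¹) * (v * j * v⁻¹) := by group
          _ = (i * z) * (z * j) := by rw [e, e1, c1 i h.hi]
          _ = i * (z * z) * j := by group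
          _ = i * j := by rw [hzz, mul_one]
      rw [e5] at e3
      have e6 : z = 1 := by
        have : 1 * (i * j) = z * (i * j) := by rw [one_mul]; exact e3
        exact (mul_right_cancel this).symm
      rw [e, e6, one_mul]
  have kj : v * j * v⁻¹ = j := by
    have e1 := kc _ _ ki
    rwa [h.xi] at e1
  have ci : Commute v i := mul_inv_eq_iff_eq_mul.1 ki
  have cj : Commute v j := mul_inv_eq_iff_eq_mul.1 kj
  have cx' : Commute v x := cx
  obtain ⟨p, q, r, rfl⟩ := h.gen hu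
  exact (((ci.pow_right _).mul_right (cj.pow_right _)).mul_right (cx'.pow_right _)).symm.eq

theorem card_eq_24 {L : Subgroup G} (e : Nonempty (L ≃* Matrix.SpecialLinearGroup (Fin 2) (ZMod 3))) :
    Nat.card L = 24 := by
  obtain ⟨e⟩ := e
  rw [Nat.card_congr e.toEquiv, Nat.card_eq_fintype_card, LieClassical.SLTwoThree.card_sl]

theorem card_sup [Finite G] {L₁ L₂ : Subgroup G} {z : G} (c1 : Nat.card L₁ = 24) (c2 : Nat.card L₂ = 24)
    (hcomm : ∀ u ∈ L₁, ∀ v ∈ L₂, u * v = v * u) (hinf : ∀ g, g ∈ L₁ → g ∈ L₂ → g = 1 ∨ g = z)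
    (z1 : z ∈ L₁) (z2 : z ∈ L₂) (hz : z ≠ 1) : Nat.card (L₁ ⊔ L₂ : Subgroup G) = 288 := by
  let f : L₁ × L₂ →* G := MonoidHom.noncommCoprod L₁.subtype L₂.subtype
    (fun u v => hcomm u u.2 v v.2)
  have hr : f.range = L₁ ⊔ L₂ := by
    have := MonoidHom.noncommCoprod_range L₁.subtype L₂.subtype (fun u v => hcomm u u.2 v v.2)
    rw [range_subtype, range_subtype] at this
    exact this
  have hk : Nat.card f.ker = 2 := by
    have hinv : ∀ v : L₂, (z : G) = v → z⁻¹ ∈ L₂ := fun v _ => L₂.inv_mem z2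
    have h1 : ∀ p : L₁ × L₂, p ∈ f.ker ↔ p = 1 ∨ p = (⟨z, z1⟩, ⟨z⁻¹, L₂.inv_mem z2⟩) := by
      intro p
      rw [MonoidHom.mem_ker]
      constructor
      · intro hp
        have e : (p.1 : G) * p.2 = 1 := hp
        have e1 : (p.1 : G) = (p.2 : G)⁻¹ := eq_inv_of_mul_eq_one_left e
        rcases hinf p.1 p.1.2 (by rw [e1]; exact L₂.inv_mem p.2.2) with e2 | e2
        · left
          have e3 : (p.2 : G) = 1 := by rw [e2, one_mul] at e; exact e
          exact Prod.ext (Subtype.ext e2) (Subtype.ext e3)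
        · right
          have e3 : (p.2 : G) = z⁻¹ := by rw [← e2]; exact (inv_eq_of_mul_eq_one_right e).symm
          exact Prod.ext (Subtype.ext e2) (Subtype.ext e3)
      · rintro (rfl | rfl)
        · exact map_one f
        · show z * z⁻¹ = 1
          exact mul_inv_cancel z
    have h2 : (f.ker : Set (L₁ × L₂)) = {1, (⟨z, z1⟩, ⟨z⁻¹, L₂.inv_mem z2⟩)} := by
      ext p
      rw [SetLike.mem_coe, h1]
      simp
    have h3 : Nat.card f.ker = (f.ker : Set (L₁ × L₂)).ncard := rfl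
    rw [h3, h2, Set.ncard_pair]
    intro e
    apply hz
    exact (congrArg (fun p : L₁ × L₂ => (p.1 : G)) e).symm
  have h1 := f.ker.card_mul_index
  rw [index_ker, hk, hr, Nat.card_prod, c1, c2] at h1
  omega

/-- `SL(3,2)` is simple of order 168 -/
theorem card_sl32 : Nat.card (Matrix.SpecialLinearGroup (Fin 3) (ZMod 2)) = 168 := by
  rw [← card_GL]
  exact Nat.card_congr (Equiv.ofBijective _ ⟨toGL_injective, toGL_surjective⟩)

theorem simple_sl32 : IsSimpleGroup (Matrix.SpecialLinearGroup (Fin 3) (ZMod 2)) := by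
  have e : Matrix.SpecialLinearGroup (Fin 3) (ZMod 2) ≃* GL (Fin 3) (ZMod 2) :=
    MulEquiv.ofBijective _ ⟨toGL_injective, toGL_surjective⟩
  have := simple_GL
  exact e.isSimpleGroup

/-- `M` induces `Aut(V)` on `V = O₂(M)` -/
theorem full_of [Finite G] {M O : Subgroup G} (hOM : O ≤ M) [hn : (O.subgroupOf M).Normal] (hO : Oct O)
    (e : Nonempty ((↥M ⧸ O.subgroupOf M) ≃* Matrix.SpecialLinearGroup (Fin 3) (ZMod 2)))
    (hM : ¬ M ≤ centralizer (O : Set G)) : Full M O := by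
  obtain ⟨e⟩ := e
  have hs : IsSimpleGroup (↥M ⧸ O.subgroupOf M) := by
    have := simple_sl32
    exact e.isSimpleGroup
  have hN : M ≤ normalizer (O : Set G) := by
    intro m hm
    rw [mem_normalizer_iff]
    have key : ∀ m ∈ M, ∀ g ∈ O, m * g * m⁻¹ ∈ O := by
      intro m hm g hg
      have := hn.conj_mem ⟨g, hOM hg⟩ (mem_subgroupOf.2 hg) ⟨m, hm⟩
      exact mem_subgroupOf.1 this
    intro g
    refine ⟨key m hm g, fun h => ?_⟩
    have := key m⁻¹ (M.inv_mem hm) _ h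
    have e : m⁻¹ * (m * g * m⁻¹) * m⁻¹⁻¹ = g := by group
    rwa [e] at this
  have hcard : Nat.card M = 1344 := by
    have h1 := (O.subgroupOf M).card_mul_index
    have h2 : Nat.card (O.subgroupOf M) = 8 := by
      rw [Nat.card_congr (subgroupOfEquivOfLe hOM).toEquiv, hO.card]
    have h3 : (O.subgroupOf M).index = 168 := by
      rw [index_eq_card, Nat.card_congr e.toEquiv, card_sl32]
    rw [h2, h3] at h1
    omega
  rw [full_iff hN]
  -- the centralizer
  set D : Subgroup M := (centralizer (O : Set G)).subgroupOf M with hD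
  have hDn : D.Normal := by
    refine ⟨fun d hd m => ?_⟩
    rw [hD, mem_subgroupOf, mem_centralizer_iff] at hd ⊢
    intro v hv
    have h1 : (m : G)⁻¹ * v * m ∈ O := by
      have := (mem_normalizer_iff.1 (hN (M.inv_mem m.2)) v).1 hv
      rwa [inv_inv] at this
    have h2 := hd _ h1
    show v * ((m : G) * d * (m : G)⁻¹) = (m : G) * d * (m : G)⁻¹ * v
    calc v * ((m : G) * d * (m : G)⁻¹) = m * (((m : G)⁻¹ * v * m) * d) * (m : G)⁻¹ := by group
      _ = m * (d * ((m : G)⁻¹ * v * m)) * (m : G)⁻¹ := by rw [h2]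
      _ = _ := by group
  have hOD : O.subgroupOf M ≤ D := by
    intro v hv
    rw [hD, mem_subgroupOf, mem_centralizer_iff]
    intro w hw
    exact hO.comm hw (mem_subgroupOf.1 hv)
  have hDO : D = O.subgroupOf M := by
    have h1 : (D.map (QuotientGroup.mk' (O.subgroupOf M))).Normal :=
      hDn.map _ (QuotientGroup.mk'_surjective _)
    have h2 : (D.map (QuotientGroup.mk' (O.subgroupOf M))).comap (QuotientGroup.mk' (O.subgroupOf M)) = D := by
      rw [comap_map_eq, QuotientGroup.ker_mk', sup_eq_left]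
      exact hOD
    rcases h1.eq_bot_or_eq_top with h3 | h3
    · rw [← h2, h3, MonoidHom.comap_bot, QuotientGroup.ker_mk']
    · exfalso
      rw [h3, comap_top] at h2
      apply hM
      intro m hm
      have : (⟨m, hm⟩ : M) ∈ D := by rw [← h2]; trivial
      exact mem_subgroupOf.1 this
  have h1 := card_img_mul hN
  have h2 : Nat.card (M ⊓ centralizer (O : Set G) : Subgroup G) = 8 := by
    rw [inf_comm, ← card_inf_eq, ← hD, hDO, Nat.card_congr (subgroupOfEquivOfLe hOM).toEquiv, hO.card]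
  rw [h2, hcard] at h1
  have := hO.finite_aut
  apply eq_top_of_card_eq
  rw [hO.card_aut]
  omega

/-- the hypotheses of S2917 -/
theorem exists_cfg [Finite G] (H H₁ H₂ M : Subgroup G) (h1 : H₁ ≤ H) (h2 : H₂ ≤ H)
    (hn1 : (H₁.subgroupOf H).Normal) (hn2 : (H₂.subgroupOf H).Normal)
    (hiso1 : Nonempty (↥H₁ ≃* Matrix.SpecialLinearGroup (Fin 2) (ZMod 3)))
    (hiso2 : Nonempty (↥H₂ ≃* Matrix.SpecialLinearGroup (Fin 2) (ZMod 3)))
    (hidx : (H₁ ⊔ H₂).relIndex H = 2)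
    (hint1 : H₁ ⊓ H₂ = H₁ ⊓ Subgroup.centralizer (H₁ : Set G))
    (hint2 : H₁ ⊓ H₂ = H₂ ⊓ Subgroup.centralizer (H₂ : Set G))
    (hHC : H = Subgroup.centralizer ((H₁ ⊓ H₂ : Subgroup G) : Set G)) [hOM : (Cfsg.pCore 2 ↥M).Normal]
    (hM : Nonempty ((↥M ⧸ Cfsg.pCore 2 ↥M) ≃* Matrix.SpecialLinearGroup (Fin 3) (ZMod 2)))
    (hOel : Cfsg.IsElementaryAbelian 2 (Cfsg.pCore 2 ↥M)) (hOcard : Nat.card ↥(Cfsg.pCore 2 ↥M) = 8)
    (hZin : H₁ ⊓ H₂ ≤ (Cfsg.pCore 2 ↥M).map M.subtype) :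
    ∃ z i j x k l y : G, Cfg z H₁ H₂ M ((Cfsg.pCore 2 ↥M).map M.subtype) i j x k l y ∧
      Nat.card (centralizer ({z} : Set G)) = 576 := by
  obtain ⟨i, j, x, t₁⟩ := exists_TG hiso1
  obtain ⟨k, l, y, t₂⟩ := exists_TG hiso2
  have hm1 : ∀ g, g ∈ H₁ ⊓ H₂ ↔ g = 1 ∨ g = i * i := fun g => by rw [hint1]; exact t₁.mem_cent
  have hm2 : ∀ g, g ∈ H₁ ⊓ H₂ ↔ g = 1 ∨ g = k * k := fun g => by rw [hint2]; exact t₂.mem_cent
  have hki : k * k = i * i := by
    rcases (hm1 (k * k)).1 ((hm2 _).2 (Or.inr rfl)) with e | e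
    · exact absurd e t₂.ne
    · exact e
  obtain ⟨z, hz⟩ : ∃ z, i * i = z := ⟨_, rfl⟩
  rw [hz] at hm1 hki
  have hzH := (hm1 z).2 (Or.inr rfl)
  have hne : z ≠ 1 := hz ▸ t₁.ne
  have hzz : z * z = 1 := hz ▸ t₁.i4
  have hHz : ∀ g, g ∈ H ↔ g * z = z * g := by
    intro g
    rw [hHC, mem_centralizer_iff]
    constructor
    · intro h
      exact (h z hzH).symm
    · intro h v hv
      rcases (hm1 v).1 hv with rfl | rfl
      · simp
      · exact h.symm
  have hHC' : H = centralizer ({z} : Set G) := by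
    ext g
    rw [hHz, mem_centralizer_singleton_iff]
  have nH1 : ∀ g ∈ H, ∀ v ∈ H₁, g * v * g⁻¹ ∈ H₁ := fun g hg v hv =>
    mem_subgroupOf.1 (hn1.conj_mem ⟨v, h1 hv⟩ (mem_subgroupOf.2 hv) ⟨g, hg⟩)
  have nH2 : ∀ g ∈ H, ∀ v ∈ H₂, g * v * g⁻¹ ∈ H₂ := fun g hg v hv =>
    mem_subgroupOf.1 (hn2.conj_mem ⟨v, h2 hv⟩ (mem_subgroupOf.2 hv) ⟨g, hg⟩)
  have hinf : ∀ g, g ∈ H₁ → g ∈ H₂ → g = 1 ∨ g = z := fun g h3 h4 => (hm1 g).1 (mem_inf.2 ⟨h3, h4⟩)
  have hcomm := comm_of (z := z) t₁ (fun g hg => nH1 g (h2 hg)) (fun g hg => nH2 g (h1 hg)) hinf hzz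
    (fun g hg => (hHz g).1 (h1 hg))
  have hK : H₁ ⊔ H₂ ≤ H := sup_le h1 h2
  have hcard : Nat.card H = 576 := by
    have e1 := card_sup (card_eq_24 hiso1) (card_eq_24 hiso2) hcomm hinf (mem_inf.1 hzH).1 (mem_inf.1 hzH).2 hne
    have e2 := ((H₁ ⊔ H₂).subgroupOf H).card_mul_index
    rw [Nat.card_congr (subgroupOfEquivOfLe hK).toEquiv, e1, show ((H₁ ⊔ H₂).subgroupOf H).index = 2 from hidx] at e2
    omega
  have hV : Oct ((Cfsg.pCore 2 ↥M).map M.subtype) := by
    refine ⟨?_, ?_⟩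
    · rw [card_map_of_injective M.subtype_injective, hOcard]
    · rintro _ ⟨v, hv, rfl⟩
      have := hOel.2 v hv
      rw [pow_two] at this
      exact congrArg Subtype.val this
  have hVM : (Cfsg.pCore 2 ↥M).map M.subtype ≤ M := by
    rintro _ ⟨v, -, rfl⟩
    exact v.2
  have hVs : ((Cfsg.pCore 2 ↥M).map M.subtype).subgroupOf M = Cfsg.pCore 2 ↥M := by
    rw [subgroupOf, comap_map_eq_self_of_injective M.subtype_injective]
  have hfull : Full M ((Cfsg.pCore 2 ↥M).map M.subtype) := by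
    have hn' : (((Cfsg.pCore 2 ↥M).map M.subtype).subgroupOf M).Normal := by rw [hVs]; exact hOM
    refine full_of hVM hV ?_ ?_
    · obtain ⟨e⟩ := hM
      exact ⟨(QuotientGroup.quotientMulEquivOfEq hVs).trans e⟩
    · intro hc
      have hMH : M ≤ H := by
        intro m hm
        rw [hHz]
        exact (mem_centralizer_iff.1 (hc hm) z (hZin hzH)).symm
      have h3 := card_dvd_of_le hMH
      have h4 : Nat.card M = 1344 := by
        have h5 := (Cfsg.pCore 2 ↥M).card_mul_index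
        rw [index_eq_card, Nat.card_congr hM.some.toEquiv, card_sl32, hOcard] at h5
        omega
      rw [h4, hcard] at h3
      omega
  refine ⟨z, i, j, x, k, l, y, ?_, by rw [← hHC', hcard]⟩
  exact
    { t₁ := t₁
      t₂ := t₂
      z₁ := hz
      z₂ := hki
      inf := hinf
      norm := fun g hg => ⟨nH1 g ((hHz g).2 hg), nH2 g ((hHz g).2 hg)⟩
      comm := hcomm
      idx := by
        intro g g' hg hg' hgK hgK'
        have e1 := mul_mem_iff_of_index_two (H := (H₁ ⊔ H₂).subgroupOf H) hidx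
          (a := ⟨g, (hHz g).2 hg⟩) (b := ⟨g', (hHz g').2 hg'⟩)
        have e2 := e1.2 ⟨fun h => absurd (mem_subgroupOf.1 h) hgK, fun h => absurd (mem_subgroupOf.1 h) hgK'⟩
        exact mem_subgroupOf.1 e2
      oct := hV
      zV := hZin hzH
      full := hfull }

end Cfsg.Agent.H244.G2
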