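import Cfsg.Agent.H244.G2.Cfg

/-!
# Simplicity in the configuration of S2917 (helper244)
-/

set_option autoImplicit false
set_option linter.unusedSectionVars false

namespace Cfsg.Agent.H244.G2

open Subgroup Cfsg.Agent.LFourR.QThreeSL Cfsg.Agent.LFourR.QThree Cfsg.Agent.StdL2.G23Aut
open Cfsg.Agent.LargeExtra.W2 Cfsg.Agent.Co2Type.Quad

variable {G : Type*} [Group G]

namespace Cfg

variable [Finite G] {z : G} {L₁ L₂ M V : Subgroup G} {i j x k l y : G}

theorem pow4 (h : Cfg z L₁ L₂ M V i j x k l y) {u : G} (hu : u * u = z) : u ^ 4 = 1 := by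
  have : u ^ 4 = (u * u) * (u * u) := by simp only [pow_succ, pow_zero, one_mul, mul_assoc]
  rw [this, hu, h.zz]

theorem V_le_normal (h : Cfg z L₁ L₂ M V i j x k l y) {Y : Subgroup G} (hY : Y.Normal) (hz : z ∈ Y) : V ≤ Y := by
  intro v hv
  by_cases hv1 : v = 1
  · rw [hv1]; exact one_mem _
  · obtain ⟨a, b, A⟩ := h.oct.exists_bas h.zV h.ne
    obtain ⟨a', b', B⟩ := h.oct.exists_bas hv hv1
    obtain ⟨m, -, -, e, -, -⟩ := h.full.bas h.oct A B
    rw [← e]
    exact hY.conj_mem z hz m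

/-- a normal subgroup containing `z` contains `j` and `i` -/
theorem ij_mem (h : Cfg z L₁ L₂ M V i j x k l y) {Y : Subgroup G} (hY : Y.Normal) (hz : z ∈ Y) :
    i ∈ Y ∧ j ∈ Y := by
  obtain ⟨a, b, u, w, u', w', U⟩ := h.exists_UV
  have ha := h.V_le_normal hY hz U.bas.hy
  -- `[a, x] ∈ Y ∩ L₁`
  have h1 : u⁻¹ * (x * u * x⁻¹) ∈ Y := by
    have e : a⁻¹ * (x * a * x⁻¹) ∈ Y := Y.mul_mem (Y.inv_mem ha) (hY.conj_mem a ha x)
    have e1 : x * w * x⁻¹ = w := by rw [h.comm x h.t₁.hx w U.hw]; group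
    have e2 : x * a * x⁻¹ = (x * u * x⁻¹) * w := by
      rw [U.a_eq]
      calc x * (u * w) * x⁻¹ = (x * u * x⁻¹) * (x * w * x⁻¹) := by group
        _ = _ := by rw [e1]
    have hm : u⁻¹ * (x * u * x⁻¹) ∈ L₁ :=
      L₁.mul_mem (L₁.inv_mem U.hu) (L₁.mul_mem (L₁.mul_mem h.t₁.hx U.hu) (L₁.inv_mem h.t₁.hx))
    have e3 : a⁻¹ * (x * a * x⁻¹) = u⁻¹ * (x * u * x⁻¹) := by
      rw [e2, U.a_eq]
      calc (u * w)⁻¹ * (x * u * x⁻¹ * w) = w⁻¹ * ((u⁻¹ * (x * u * x⁻¹)) * w) := by group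
        _ = _ := by rw [h.comm _ hm w U.hw]; group
    rwa [e3] at e
  obtain ⟨g, -, hg⟩ := h.t₁.cg U.hu (U.uu.trans h.z₁.symm)
  have hi : i ∈ Y := by
    rw [hg]; exact hY.conj_mem _ h1 g
  refine ⟨hi, ?_⟩
  rw [← h.t₁.xi]
  exact hY.conj_mem _ hi x

/-- a normal subgroup containing `z` induces `Aut(V)` on `V` -/
theorem full_of_normal (h : Cfg z L₁ L₂ M V i j x k l y) {Y : Subgroup G} (hY : Y.Normal) (hz : z ∈ Y) :
    Full Y V := by
  have hX : (img Y V).Normal := by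
    refine ⟨fun φ hφ ψ => ?_⟩
    obtain ⟨k, hk, hkn, hkv⟩ := mem_img.1 hφ
    obtain ⟨m, hm, hmv⟩ := h.full ψ
    have hmn : m ∈ normalizer (V : Set G) := by
      rw [mem_normalizer_iff]
      intro g
      constructor
      · intro hg
        rw [hmv ⟨g, hg⟩]
        exact (ψ ⟨g, hg⟩).2
      · intro hg
        have h4 := hmv (ψ.symm ⟨_, hg⟩)
        rw [MulEquiv.apply_symm_apply] at h4
        have h5 : ((ψ.symm ⟨_, hg⟩ : V) : G) = g := mul_left_cancel (mul_right_cancel h4)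
        rw [← h5]
        exact (ψ.symm ⟨_, hg⟩).2
    refine mem_img.2 ⟨m * k * m⁻¹, hY.conj_mem k hk m, mul_mem (mul_mem hmn hkn) (inv_mem hmn), fun v => ?_⟩
    have e1 : m⁻¹ * (v : G) * m = ψ⁻¹ v := by
      have := hmv (ψ⁻¹ v)
      rw [show ψ (ψ⁻¹ v) = v from MulEquiv.apply_symm_apply ψ v] at this
      rw [← this]; group
    calc m * k * m⁻¹ * (v : G) * (m * k * m⁻¹)⁻¹ = m * (k * (m⁻¹ * (v : G) * m) * k⁻¹) * m⁻¹ := by group
      _ = (ψ * φ * ψ⁻¹) v := by rw [e1, hkv, hmv]; rfl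
  rcases h.oct.normal _ hX with hb | hb
  · exfalso
    -- `u` acts nontrivially on `V`
    obtain ⟨a, b, u, w, u', w', U⟩ := h.exists_UV
    have hi := h.ij_mem hY hz
    have huY : u ∈ Y := by
      obtain ⟨p, q, e⟩ := h.t₁.sq4 U.hu (h.pow4 U.uu)
      rw [e]
      exact Y.mul_mem (Y.pow_mem hi.1 _) (Y.pow_mem hi.2 _)
    have hL := h.amb.large h.t₁.toTetG h.t₂.toTetG
    have hu4 : u ^ 4 = 1 := h.pow4 U.uu
    have huQ := h.amb.mem_Q₁ h.t₁.toTetG h.t₂.toTetG U.hu hu4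
    have hVQ : ∀ v ∈ V, v ∈ h.amb.Q h.t₁.toTetG h.t₂.toTetG := by
      intro v hv
      by_cases hv1 : v = 1
      · rw [hv1]; exact one_mem _
      · by_cases hvz : v = z
        · rw [hvz]; exact hL.z_mem
        · obtain ⟨r, hr, s, hs, e, hrr, hss⟩ := h.exists_uv hv hv1 hvz
          exact ⟨r, hr, s, hs, h.pow4 hrr, h.pow4 hss, e⟩
    have hmem : ∀ v ∈ V, u * v * u⁻¹ ∈ V := by
      intro v hv
      rcases hL.comm u huQ v (hVQ v hv) with e | e
      · rw [e]; simpa using hv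
      · rw [e]
        have c1 : Commute z u⁻¹ := by
          have : Commute u z := h.cz₁ U.hu
          exact this.symm.inv_right
        have : v * u * z * u⁻¹ = v * z := by rw [mul_assoc _ z, c1.eq]; group
        rw [this]
        exact V.mul_mem hv h.zV
    have hun : u ∈ normalizer (V : Set G) := by
      rw [mem_normalizer_iff]
      intro g
      refine ⟨hmem g, fun hg => ?_⟩
      have h1 : u * (u * g * u⁻¹) * u⁻¹ ∈ V := hmem _ hg
      have h2 : u * (u * g * u⁻¹) * u⁻¹ = z * g * z⁻¹ := by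
        rw [← U.uu]; group
      rw [h2] at h1
      have h3 : g = z⁻¹ * (z * g * z⁻¹) * z := by group
      rw [h3]
      exact V.mul_mem (V.mul_mem (V.inv_mem h.zV) h1) h.zV
    have hX1 : V.normalizerMonoidHom ⟨u, hun⟩ ∈ img Y V := mem_img.2 ⟨u, huY, hun, fun v => rfl⟩
    rw [hb, mem_bot] at hX1
    have h1 : u * b * u⁻¹ = b := by
      have := congrArg (fun φ : MulAut V => ((φ ⟨b, U.bas.hw⟩ : V) : G)) hX1
      exact this
    -- `u` commutes with `u'`
    have h2 : u * u' * u⁻¹ = u' := by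
      have e1 : u * w' * u⁻¹ = w' := by rw [h.comm u U.hu w' U.hw']; group
      rw [U.b_eq] at h1
      have e2 : (u * u' * u⁻¹) * (u * w' * u⁻¹) = u' * w' := by rw [← h1]; group
      rw [e1] at e2
      exact mul_right_cancel e2
    -- but commuting elements of order four of `L₁` agree up to inversion
    have h3 : (u * u') * (u * u') = 1 := by
      have e : u * u' = u' * u := mul_inv_eq_iff_eq_mul.1 h2
      calc (u * u') * (u * u') = u * (u' * u) * u' := by group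
        _ = u * (u * u') * u' := by rw [e]
        _ = (u * u) * (u' * u') := by group
        _ = 1 := by rw [U.uu, U.uu', h.zz]
    rcases h.t₁.sq1 (L₁.mul_mem U.hu U.hu') h3 with e | e
    · apply U.ne2
      have : u * u' * u' = u' := by rw [e, one_mul]
      rw [mul_assoc, U.uu'] at this
      calc u = u * z * z := by rw [mul_assoc, h.zz, mul_one]
        _ = u' * z := by rw [this]
    · apply U.ne1
      rw [h.z₁] at e
      have : u * u' * u' = z * u' := by rw [e]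
      rw [mul_assoc, U.uu', ← h.cz₁ U.hu'] at this
      exact mul_right_cancel this
  · intro φ
    have : φ ∈ img Y V := by rw [hb]; trivial
    obtain ⟨k, hk, -, hv⟩ := mem_img.1 this
    exact ⟨k, hk, hv⟩

theorem x_mem (h : Cfg z L₁ L₂ M V i j x k l y) {Y : Subgroup G} (hY : Y.Normal) (hz : z ∈ Y) :
    x ∈ Y := by
  obtain ⟨a, b, u, w, u', w', U⟩ := h.exists_UV
  obtain ⟨c, hc, S⟩ := h.exists_sw U (h.full_of_normal hY hz)
  obtain ⟨g, hg, -, h2⟩ := h.adj U S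
  obtain ⟨hi, hj⟩ := h.ij_mem hY hz
  let π := QuotientGroup.mk' Y
  have π1 : ∀ g : G, g ∈ Y → π g = 1 := fun g hg => (QuotientGroup.eq_one_iff g).2 hg
  obtain ⟨p, q, r, e⟩ := h.t₁.gen hg
  have e1 : π g = π x ^ (r : ℕ) := by
    rw [e, map_mul, map_mul, map_pow, map_pow, map_pow, π1 i hi, π1 j hj]; simp
  have e2 : π x = (π x)⁻¹ := by
    have := congrArg π h2
    simp only [map_mul, map_inv, π1 c hc, mul_one, e1] at this
    rw [← this]
    group
  have e3 : π x * π x = 1 := by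
    nth_rewrite 2 [e2]; rw [mul_inv_cancel]
  have e4 : π x ^ 3 = 1 := by rw [← map_pow, h.t₁.x3, map_one]
  have e5 : π x = 1 := by
    have : π x ^ 3 = (π x * π x) * π x := by simp only [pow_succ, pow_zero, one_mul]
    rw [this, e3, one_mul] at e4
    exact e4
  exact (QuotientGroup.eq_one_iff x).1 e5

theorem cent_le_normal (h : Cfg z L₁ L₂ M V i j x k l y) {Y : Subgroup G} (hY : Y.Normal) (hz : z ∈ Y) (g : G)
    (hg : g * z = z * g) : g ∈ Y := by
  obtain ⟨a, b, u, w, u', w', U⟩ := h.exists_UV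
  obtain ⟨c, hc, S⟩ := h.exists_sw U (h.full_of_normal hY hz)
  have hcK := U.not_mem h S
  have hx := h.x_mem hY hz
  have hy := h.symm.x_mem hY hz
  obtain ⟨hi, hj⟩ := h.ij_mem hY hz
  obtain ⟨hk, hl⟩ := h.symm.ij_mem hY hz
  have hK : L₁ ⊔ L₂ ≤ Y := by
    apply sup_le
    · intro v hv
      obtain ⟨p, q, r, rfl⟩ := h.t₁.gen hv
      exact mul_mem (mul_mem (pow_mem hi _) (pow_mem hj _)) (pow_mem hx _)
    · intro v hv
      obtain ⟨p, q, r, rfl⟩ := h.t₂.gen hv
      exact mul_mem (mul_mem (pow_mem hk _) (pow_mem hl _)) (pow_mem hy _)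
  by_cases hgK : g ∈ L₁ ⊔ L₂
  · exact hK hgK
  · have := h.mem_of S.cz hcK hg hgK
    have e : g = c * (c⁻¹ * g) := by group
    rw [e]
    exact Y.mul_mem hc (hK this)

theorem isSimple (h : Cfg z L₁ L₂ M V i j x k l y) : IsSimpleGroup G := by
  refine LargeSimple.isSimple (h.amb.large h.t₁.toTetG h.t₂.toTetG) (fun Y hY hz => h.cent_le_normal hY hz) ?_
  obtain ⟨a, b, u, w, u', w', U⟩ := h.exists_UV
  obtain ⟨m, -, -, e, -, -⟩ := h.full.bas h.oct U.bas (U.bas.swap12 h.oct)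
  refine ⟨m, ?_, ?_⟩
  · rw [e]
    exact ⟨u, U.hu, w, U.hw, h.pow4 U.uu, h.pow4 U.ww, U.a_eq⟩
  · rw [e]; exact U.bas.yx

end Cfg

end Cfsg.Agent.H244.G2
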