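import Cfsg.Agent.LFourR.QThree

/-!
# More facts on `SL(2,3)` in coordinates (helper244)
-/

set_option autoImplicit false

namespace Cfsg.Agent.H244.G2

open Matrix Cfsg.Agent.LFourR.QThreeSL Cfsg.Agent.LFourR.QThree

/-- more facts on `SL(2,3)` -/
structure More {K : Type*} [Group K] (i j x : K) : Prop where
  sq1 : ∀ g : K, g * g = 1 → g = 1 ∨ g = i * i
  noswap : ∀ g u v : K, u * u = i * i → v * v = i * i → u ≠ v → u ≠ v * (i * i) →
    (g * u * g⁻¹ = v ∨ g * u * g⁻¹ = v * (i * i)) → (g * v * g⁻¹ = u ∨ g * v * g⁻¹ = u * (i * i)) → False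
  aut : ∀ u w : K, u * u = i * i → w ^ 3 = 1 → w ≠ 1 → w * (w * u * w⁻¹) * w⁻¹ = u * (w * u * w⁻¹) →
    ∃ g : K, (g * u * g⁻¹ = i ∧ g * w * g⁻¹ = x) ∨ (g * u * g⁻¹ = j * (i * i) ∧ g * w * g⁻¹ = x⁻¹)
  cg : ∀ w : K, w * w = i * i → ∃ g : K, i = g * (w⁻¹ * (x * w * x⁻¹)) * g⁻¹

/-- the elements in normal form -/
def nf (t : Fin 4 × Fin 2 × Fin 3) : SpecialLinearGroup (Fin 2) (ZMod 3) :=
  I3 ^ (t.1 : ℕ) * J3 ^ (t.2.1 : ℕ) * X3 ^ (t.2.2 : ℕ)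

theorem nf_surj (g : SpecialLinearGroup (Fin 2) (ZMod 3)) : ∃ t, g = nf t := by
  obtain ⟨a, b, c, h⟩ := tet3.gen g
  exact ⟨(a, b, c), h⟩

/-- the elements of the quaternion subgroup -/
def qf (t : Fin 4 × Fin 2) : SpecialLinearGroup (Fin 2) (ZMod 3) := I3 ^ (t.1 : ℕ) * J3 ^ (t.2 : ℕ)

set_option maxRecDepth 100000 in
theorem sq1' : ∀ s, nf s * nf s = 1 → nf s = 1 ∨ nf s = I3 * I3 := by decide +kernel

set_option maxRecDepth 100000 in
theorem sqi' : ∀ s, nf s * nf s = I3 * I3 → ∃ a, nf s = qf a := by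
  decide +kernel

set_option synthInstance.maxHeartbeats 400000 in
set_option synthInstance.maxSize 1000 in
set_option maxRecDepth 100000 in
theorem noswap' : ∀ a b, qf a * qf a = I3 * I3 → qf b * qf b = I3 * I3 → qf a ≠ qf b →
    qf a ≠ qf b * (I3 * I3) → ∀ s, (nf s * qf a * (nf s)⁻¹ = qf b ∨ nf s * qf a * (nf s)⁻¹ = qf b * (I3 * I3)) →
    ¬ (nf s * qf b * (nf s)⁻¹ = qf a ∨ nf s * qf b * (nf s)⁻¹ = qf a * (I3 * I3)) := by
  decide +kernel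

set_option maxRecDepth 100000 in
theorem aut' : ∀ a s, qf a * qf a = I3 * I3 →
    nf s ^ 3 = 1 → nf s ≠ 1 →
    nf s * (nf s * qf a * (nf s)⁻¹) * (nf s)⁻¹ = qf a * (nf s * qf a * (nf s)⁻¹) →
    ∃ r, (nf r * qf a * (nf r)⁻¹ = I3 ∧ nf r * nf s * (nf r)⁻¹ = X3) ∨
      (nf r * qf a * (nf r)⁻¹ = J3 * (I3 * I3) ∧ nf r * nf s * (nf r)⁻¹ = X3⁻¹) := by
  decide +kernel

set_option maxRecDepth 100000 in
theorem cg' : ∀ a, qf a * qf a = I3 * I3 → ∃ r, I3 = nf r * ((qf a)⁻¹ * (X3 * qf a * X3⁻¹)) * (nf r)⁻¹ := by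
  decide +kernel

theorem more3 : More I3 J3 X3 where
  sq1 := by
    intro g
    obtain ⟨s, rfl⟩ := nf_surj g
    exact sq1' s
  noswap := by
    intro g u v hu hv h1 h2 h3 h4
    obtain ⟨s, rfl⟩ := nf_surj g
    obtain ⟨s1, rfl⟩ := nf_surj u
    obtain ⟨s2, rfl⟩ := nf_surj v
    obtain ⟨a, e1⟩ := sqi' s1 hu
    obtain ⟨b, e2⟩ := sqi' s2 hv
    rw [e1, e2] at h1 h2 h3 h4
    rw [e1] at hu
    rw [e2] at hv
    exact noswap' a b hu hv h1 h2 s h3 h4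
  aut := by
    intro u w hu hw hw1 h
    obtain ⟨s1, rfl⟩ := nf_surj u
    obtain ⟨s2, rfl⟩ := nf_surj w
    obtain ⟨a, e1⟩ := sqi' s1 hu
    rw [e1] at hu h ⊢
    obtain ⟨r, hr⟩ := aut' a s2 hu hw hw1 h
    exact ⟨nf r, hr⟩
  cg := by
    intro w hw
    obtain ⟨s1, rfl⟩ := nf_surj w
    obtain ⟨a, e1⟩ := sqi' s1 hw
    rw [e1] at hw ⊢
    obtain ⟨r, hr⟩ := cg' a hw
    exact ⟨nf r, hr⟩

theorem More.map {K K' : Type*} [Group K] [Group K'] {i j x : K} (h : More i j x) (e : K ≃* K') :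
    More (e i) (e j) (e x) where
  sq1 := by
    intro g hg
    rcases h.sq1 (e.symm g) (by rw [← map_mul, hg, map_one]) with h1 | h1
    · left; rw [← e.apply_symm_apply g, h1, map_one]
    · right; rw [← e.apply_symm_apply g, h1, map_mul]
  noswap := by
    intro g u v
    obtain ⟨g, rfl⟩ := e.surjective g
    obtain ⟨u, rfl⟩ := e.surjective u
    obtain ⟨v, rfl⟩ := e.surjective v
    simp only [← map_mul, ← map_inv, e.injective.eq_iff, ne_eq]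
    exact h.noswap g u v
  aut := by
    intro u w
    obtain ⟨u, rfl⟩ := e.surjective u
    obtain ⟨w, rfl⟩ := e.surjective w
    simp only [← map_mul, ← map_inv, ← map_pow, e.injective.eq_iff, ne_eq, MulEquiv.map_eq_one_iff]
    intro h1 h2 h3 h4
    obtain ⟨g, hg⟩ := h.aut u w h1 h2 h3 h4
    refine ⟨e g, ?_⟩
    simp only [← map_mul, ← map_inv, e.injective.eq_iff]
    exact hg
  cg := by
    intro w
    obtain ⟨w, rfl⟩ := e.surjective w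
    simp only [← map_mul, ← map_inv, e.injective.eq_iff]
    intro h1
    obtain ⟨g, hg⟩ := h.cg w h1
    refine ⟨e g, ?_⟩
    simp only [← map_mul, ← map_inv, e.injective.eq_iff]
    exact hg

variable {G : Type*} [Group G]

/-- coordinates of a subgroup `L ≅ SL(2,3)` with all facts -/
structure TG (L : Subgroup G) (i j x : G) : Prop extends TetG L i j x where
  m : More (⟨i, hi⟩ : L) ⟨j, hj⟩ ⟨x, hx⟩

theorem exists_TG {L : Subgroup G} (e : Nonempty (L ≃* SpecialLinearGroup (Fin 2) (ZMod 3))) :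
    ∃ i j x : G, TG L i j x := by
  obtain ⟨e⟩ := e
  exact ⟨_, _, _, ⟨⟨(e.symm I3).2, (e.symm J3).2, (e.symm X3).2, tet3.map e.symm⟩, more3.map e.symm⟩⟩

namespace TG

variable {L : Subgroup G} {i j x : G}

theorem sq1 (h : TG L i j x) {g : G} (hg : g ∈ L) (h1 : g * g = 1) : g = 1 ∨ g = i * i := by
  rcases h.m.sq1 ⟨g, hg⟩ (Subtype.ext h1) with h2 | h2
  · left; exact congrArg Subtype.val h2
  · right; exact congrArg Subtype.val h2

theorem noswap (h : TG L i j x) {g u v : G} (hg : g ∈ L) (hu : u ∈ L) (hv : v ∈ L) (h1 : u * u = i * i)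
    (h2 : v * v = i * i) (h3 : u ≠ v) (h4 : u ≠ v * (i * i)) (h5 : g * u * g⁻¹ = v ∨ g * u * g⁻¹ = v * (i * i))
    (h6 : g * v * g⁻¹ = u ∨ g * v * g⁻¹ = u * (i * i)) : False := by
  refine h.m.noswap ⟨g, hg⟩ ⟨u, hu⟩ ⟨v, hv⟩ (Subtype.ext h1) (Subtype.ext h2) (fun e => h3 (congrArg Subtype.val e))
    (fun e => h4 (congrArg Subtype.val e)) ?_ ?_
  · exact h5.imp (fun e => Subtype.ext e) (fun e => Subtype.ext e)
  · exact h6.imp (fun e => Subtype.ext e) (fun e => Subtype.ext e)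

theorem aut (h : TG L i j x) {u w : G} (hu : u ∈ L) (hw : w ∈ L) (h1 : u * u = i * i) (h2 : w ^ 3 = 1)
    (h3 : w ≠ 1) (h4 : w * (w * u * w⁻¹) * w⁻¹ = u * (w * u * w⁻¹)) :
    ∃ g ∈ L, (g * u * g⁻¹ = i ∧ g * w * g⁻¹ = x) ∨ (g * u * g⁻¹ = j * (i * i) ∧ g * w * g⁻¹ = x⁻¹) := by
  obtain ⟨g, hg⟩ := h.m.aut ⟨u, hu⟩ ⟨w, hw⟩ (Subtype.ext h1) ((TetG.pow_sub hw).2 h2)
    (fun e => h3 (congrArg Subtype.val e)) (Subtype.ext h4)
  refine ⟨g, g.2, ?_⟩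
  rcases hg with ⟨h5, h6⟩ | ⟨h5, h6⟩
  · exact Or.inl ⟨congrArg Subtype.val h5, congrArg Subtype.val h6⟩
  · exact Or.inr ⟨congrArg Subtype.val h5, congrArg Subtype.val h6⟩

theorem cg (h : TG L i j x) {w : G} (hw : w ∈ L) (h1 : w * w = i * i) :
    ∃ g ∈ L, i = g * (w⁻¹ * (x * w * x⁻¹)) * g⁻¹ := by
  obtain ⟨g, hg⟩ := h.m.cg ⟨w, hw⟩ (Subtype.ext h1)
  exact ⟨g, g.2, congrArg Subtype.val hg⟩

end TG

end Cfsg.Agent.H244.G2
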